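import Cfsg.Agent.Lib.PRationalCount.Trace
import Cfsg.Agent.Lib.Blocks.SecondMain
import Cfsg.Agent.Lib.Blocks.Star.Props
import Cfsg.Agent.Lib.CharTheory.PowerMap

/-!
# The number of `p`-rational characters in a block
-/

namespace CfsgLib.PRationalCount

open Cfsg CfsgLib.CharTheory CfsgLib.Blocks CfsgLib.Blocks.Star
open scoped ComplexConjugate

set_option linter.unusedVariables false
set_option linter.unusedSectionVars false
set_option linter.style.haveILetI false

universe u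

variable {p : ℕ} {M : Ideal AlgInt} {G : Type u} [Group G] [Fintype G]

theorem overBlocks_closed (hM : IsPModular p M) {H : Subgroup G} [Fintype H]
    (B : Set (IrrCharacter G)) :
    ∀ ψ ∈ overBlocks M H B, blockOf M (ψ : H → ℂ) ⊆ overBlocks M H B := by
  intro ψ hψ φ hφ
  show IsInducedBlock M H (blockOf M (φ : H → ℂ)) B
  rw [← eq_blockOf hM (blockOf_isPBlock ψ) hφ]
  exact hψ

/-- The contribution of the section of a `p`-element to the trace of a power map on a block. -/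
theorem section_term (hM : IsPModular p M) [Fact p.Prime] {B : Set (IrrCharacter G)}
    (hB : IsPBlock M B) {k : ℕ} (hk : k.Coprime (Nat.card G))
    (hk1 : k ≡ 1 [MOD Nat.card G / p ^ (Nat.card G).factorization p]) {x : G}
    (hx : ∃ j : ℕ, orderOf x = p ^ j) :
    ∃ N : ℕ, ∑ c ∈ regC p x, ∑ χ ∈ bset B, (χ : G → ℂ) ((x * c) ^ k) * conj ((χ : G → ℂ) (x * c)) =
      (N : ℂ) := by
  classical
  have hfix : ∀ c ∈ regC p x, (x * c) ^ k = x ^ k * c := fun c hc => by
    obtain ⟨h1, h2⟩ := mem_regC.1 hc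
    rw [h1.mul_pow]
    congr 1
    conv_rhs => rw [← pow_one c]
    refine pow_eq_pow_iff_modEq.2 (hk1.of_dvd ?_)
    refine Nat.Coprime.dvd_of_dvd_mul_left
      (((hM.1.coprime_iff_not_dvd.2 h2).symm).pow_right ((Nat.card G).factorization p)) ?_
    rw [Nat.ordProj_mul_ordCompl_eq_self]
    exact orderOf_dvd_natCard c
  obtain ⟨j, hj⟩ := hx
  have hcx : Nat.Coprime (orderOf x) k := by
    rw [Nat.coprime_comm]
    exact hk.coprime_dvd_right (orderOf_dvd_natCard x)
  obtain ⟨i, hi⟩ := exists_pow_eq_self_of_coprime hcx.symm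
  by_cases hconj : IsConj x (x ^ k)
  · obtain ⟨n, hn⟩ := isConj_iff.1 hconj
    set H : Subgroup G := Subgroup.centralizer ({x} : Set G) with hHdef
    have hH : IsCentr x H := isCentr_singleton x
    haveI : Fintype H := Fintype.ofFinite H
    have hmem : ∀ y : H, n⁻¹ * (y : G) * n ∈ H := fun y => by
      rw [hH]
      have h1 : Commute (y : G) (x ^ k) := ((hH _).1 y.2).pow_right k
      rw [← hn] at h1
      show _ * _ = _ * _
      calc n⁻¹ * (y : G) * n * x = n⁻¹ * ((y : G) * (n * x * n⁻¹)) * n := by group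
        _ = n⁻¹ * (n * x * n⁻¹ * (y : G)) * n := by rw [h1.eq]
        _ = x * (n⁻¹ * (y : G) * n) := by group
    have hmem' : ∀ y : H, n * (y : G) * n⁻¹ ∈ H := fun y => by
      rw [hH]
      have h1 : Commute (n * (y : G) * n⁻¹) (n * x * n⁻¹) := by
        show _ * _ = _ * _
        calc n * (y : G) * n⁻¹ * (n * x * n⁻¹) = n * ((y : G) * x) * n⁻¹ := by group
          _ = n * (x * (y : G)) * n⁻¹ := by rw [((hH _).1 y.2).eq]
          _ = n * x * n⁻¹ * (n * (y : G) * n⁻¹) := by group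
      rw [hn] at h1
      have h2 := h1.pow_right i
      rwa [hi] at h2
    let α : H ≃* H :=
      { toFun := fun y => ⟨n⁻¹ * (y : G) * n, hmem y⟩
        invFun := fun y => ⟨n * (y : G) * n⁻¹, hmem' y⟩
        left_inv := fun y => Subtype.ext (by group)
        right_inv := fun y => Subtype.ext (by group)
        map_mul' := fun y z => Subtype.ext (by simp only [Subgroup.coe_mul]; group) }
    obtain ⟨N, hN⟩ := trace_twisted_nonneg hM (overBlocks M H B) (overBlocks_closed hM B) α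
    refine ⟨Nat.card H * N, ?_⟩
    rw [Nat.cast_mul, ← hN, Finset.sum_congr rfl fun c hc => by rw [hfix c hc],
      sum_regC hH (fun c => ∑ χ ∈ bset B, (χ : G → ℂ) (x ^ k * c) * conj ((χ : G → ℂ) (x * c)))]
    refine Finset.sum_congr rfl fun y hy => ?_
    have hy' : ¬ p ∣ orderOf y := (Finset.mem_filter.1 hy).2
    have hα : ¬ p ∣ orderOf (α y) := by
      rwa [show orderOf (α y) = orderOf y from orderOf_injective α.toMonoidHom α.injective y]
    rw [← sum_sq_section hM hH ⟨j, hj⟩ hB hα hy']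
    refine Finset.sum_congr rfl fun χ _ => ?_
    congr 1
    rw [← irr_isClassFun χ (x * ((α y : H) : G)) n]
    refine congrArg (χ : G → ℂ) ?_
    show x ^ k * (y : G) = n * (x * (n⁻¹ * (y : G) * n)) * n⁻¹
    rw [← hn]; group
  · refine ⟨0, ?_⟩
    rw [Nat.cast_zero]
    refine Finset.sum_eq_zero fun c hc => ?_
    obtain ⟨h1, h2⟩ := mem_regC.1 hc
    rw [hfix c hc, Finset.sum_congr rfl fun (χ : IrrCharacter G) _ => by rw [irr_conjInv χ (x * c)]]
    have hxk : ∃ j' : ℕ, orderOf (x ^ k) = p ^ j' := ⟨j, by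
      rw [hcx.orderOf_pow, hj]⟩
    exact block_orth hM hB (x := x ^ k) (y := x)
      ⟨c, rfl, h1.pow_left k, hxk, h2⟩ ⟨c, rfl, h1, ⟨j, hj⟩, h2⟩ fun h => hconj h.symm

theorem exists_power_generator (hp : p.Prime) (hodd : p ≠ 2) {a m : ℕ} (hm : ¬ p ∣ m) :
    ∃ k : ℕ, k.Coprime (p ^ a * m) ∧ k ≡ 1 [MOD m] ∧
      ∀ k' : ℕ, k'.Coprime (p ^ a * m) → k' ≡ 1 [MOD m] → ∃ i : ℕ, k' ≡ k ^ i [MOD p ^ a * m] := by
  haveI : NeZero (p ^ a) := ⟨pow_ne_zero _ hp.ne_zero⟩
  haveI : IsCyclic (ZMod (p ^ a))ˣ := ZMod.isCyclic_units_of_prime_pow p hp hodd a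
  obtain ⟨ζ, hζ⟩ := IsCyclic.exists_generator (α := (ZMod (p ^ a))ˣ)
  have hcop : Nat.Coprime (p ^ a) m := (hp.coprime_iff_not_dvd.2 hm).pow_left _
  obtain ⟨k, hk1, hk2⟩ := Nat.chineseRemainder hcop (ζ : ZMod (p ^ a)).val 1
  have hζc : Nat.Coprime (ζ : ZMod (p ^ a)).val (p ^ a) := ZMod.val_coe_unit_coprime ζ
  have hkc : k.Coprime (p ^ a) := by
    rw [Nat.Coprime, hk1.gcd_eq]; exact hζc
  have hkm : k.Coprime m := by
    rw [Nat.Coprime, hk2.gcd_eq, Nat.gcd_one_left]
  refine ⟨k, Nat.Coprime.mul_right hkc hkm, hk2, fun k' hk' hk'1 => ?_⟩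
  have hk'c : k'.Coprime (p ^ a) := hk'.coprime_dvd_right (dvd_mul_right _ _)
  obtain ⟨i, hi⟩ := (mem_powers_iff_mem_zpowers (x := ζ) (y := ZMod.unitOfCoprime k' hk'c)).2 (hζ _)
  refine ⟨i, (Nat.modEq_and_modEq_iff_modEq_mul hcop).1 ⟨?_, ?_⟩⟩
  · rw [← ZMod.natCast_eq_natCast_iff]
    have h1 : (k : ZMod (p ^ a)) = (ζ : ZMod (p ^ a)) := by
      rw [(ZMod.natCast_eq_natCast_iff _ _ _).2 hk1, ZMod.natCast_zmod_val]
    rw [Nat.cast_pow, h1, ← Units.val_pow_eq_pow_val]
    simp only at hi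
    rw [hi, ZMod.coe_unitOfCoprime]
  · exact hk'1.trans ((by simpa using hk2.pow i : k ^ i ≡ 1 [MOD m]).symm)

theorem main [Fact p.Prime] (hodd : p ≠ 2) (hM : IsPModular p M) {B : Set (IrrCharacter G)}
    (hB : IsPBlock M B) :
    blockRank p B ≤ Nat.card {χ : IrrCharacter G // χ ∈ B ∧
      ∀ k : ℕ, Nat.Coprime k (Nat.card G) →
        k ≡ 1 [MOD Nat.card G / p ^ (Nat.card G).factorization p] →
          ∀ g : G, (χ : G → ℂ) (g ^ k) = (χ : G → ℂ) g} := by
  classical
  set a := (Nat.card G).factorization p with ha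
  set m := Nat.card G / p ^ a with hm
  have hGm : Nat.card G = p ^ a * m := (Nat.ordProj_mul_ordCompl_eq_self _ _).symm
  obtain ⟨k, hkc, hk1, hgen⟩ := exists_power_generator hM.1 hodd
    (a := a) (Nat.not_dvd_ordCompl hM.1 Nat.card_pos.ne' : ¬ p ∣ m)
  rw [← hGm] at hkc hgen
  set S := (bset B).filter fun χ => powIrr hkc χ = χ with hS
  have hle : S.card ≤ Nat.card {χ : IrrCharacter G // χ ∈ B ∧
      ∀ k : ℕ, Nat.Coprime k (Nat.card G) → k ≡ 1 [MOD m] →
        ∀ g : G, (χ : G → ℂ) (g ^ k) = (χ : G → ℂ) g} := by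
    rw [Nat.card_eq_fintype_card, Fintype.card_subtype]
    refine Finset.card_le_card fun χ hχ => ?_
    obtain ⟨hχB, hχf⟩ := Finset.mem_filter.1 hχ
    refine Finset.mem_filter.2 ⟨Finset.mem_univ _, mem_bset.1 hχB, fun k' hk' hk'1 g => ?_⟩
    have h1 : ∀ g : G, (χ : G → ℂ) (g ^ k) = (χ : G → ℂ) g := fun g =>
      congrFun (congrArg Subtype.val hχf) g
    have h2 : ∀ (i : ℕ) (g : G), (χ : G → ℂ) (g ^ k ^ i) = (χ : G → ℂ) g := by
      intro i
      induction i with
      | zero => simp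
      | succ i ih => intro g; rw [pow_succ, pow_mul, h1, ih]
    obtain ⟨i, hi⟩ := hgen k' hk' hk'1
    rw [pow_eq_pow_iff_modEq.2 (hi.of_dvd (orderOf_dvd_natCard g)), h2]
  refine le_trans ?_ hle
  -- the number of fixed characters as a sum over the group
  have hcount : (Nat.card G : ℂ) * (S.card : ℂ) =
      ∑ g, ∑ χ ∈ bset B, (χ : G → ℂ) (g ^ k) * conj ((χ : G → ℂ) g) := by
    rw [Finset.sum_comm, hS, Finset.card_filter, Nat.cast_sum, Finset.mul_sum]
    refine Finset.sum_congr rfl fun χ _ => ?_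
    have h1 : classInner ((powIrr hkc χ : IrrCharacter G) : G → ℂ) (χ : G → ℂ) =
        if powIrr hkc χ = χ then 1 else 0 := by
      split_ifs with h
      · rw [h, classInner_irr_self χ.2]
      · exact classInner_irr_ne (powIrr hkc χ).2 χ.2 fun h' => h (Subtype.ext h')
    push_cast
    rw [← h1, classInner, mul_inv_cancel_left₀ (Nat.cast_ne_zero.2 Nat.card_pos.ne')]
    rfl
  rw [sum_by_pPart hM.1] at hcount
  have hterm : ∀ x ∈ qElts G p, ∃ N : ℕ, ∑ c ∈ regC p x,
      ∑ χ ∈ bset B, (χ : G → ℂ) ((x * c) ^ k) * conj ((χ : G → ℂ) (x * c)) = (N : ℂ) :=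
    fun x hx => section_term hM hB hkc hk1 (mem_qElts.1 hx)
  choose! N hN using hterm
  rw [Finset.sum_congr rfl hN] at hcount
  have h1q : (1 : G) ∈ qElts G p := mem_qElts.2 ⟨0, by simp⟩
  have hone : (N 1 : ℂ) = (Nat.card G : ℂ) * (blockRank p B : ℂ) := by
    rw [← hN 1 h1q, card_mul_blockRank hM hB]
    have hreg : regC p (1 : G) = Finset.univ.filter fun c => ¬ p ∣ orderOf c := by
      ext c; simp [mem_regC, Commute.one_left]
    rw [hreg, Finset.sum_comm]
    refine Finset.sum_congr rfl fun χ _ => ?_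
    rw [← sum_reg_norm]
    refine Finset.sum_congr rfl fun c hc => ?_
    have hc' := (Finset.mem_filter.1 hc).2
    rw [one_mul]
    have hck : c ^ k = c := by
      conv_rhs => rw [← pow_one c]
      refine pow_eq_pow_iff_modEq.2 (hk1.of_dvd ?_)
      refine Nat.Coprime.dvd_of_dvd_mul_left
        (((hM.1.coprime_iff_not_dvd.2 hc').symm).pow_right a) ?_
      rw [← hGm]
      exact orderOf_dvd_natCard c
    rw [hck]
  have h2 : N 1 ≤ ∑ x ∈ qElts G p, N x :=
    Finset.single_le_sum (fun x _ => Nat.zero_le (N x)) h1q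
  have e1 : Nat.card G * S.card = ∑ x ∈ qElts G p, N x := by exact_mod_cast hcount
  have e2 : N 1 = Nat.card G * blockRank p B := by exact_mod_cast hone
  rw [e2, ← e1] at h2
  exact Nat.le_of_mul_le_mul_left h2 Nat.card_pos

end CfsgLib.PRationalCount
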