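import Cfsg.Agent.Lib.BlockDegreeSquares.Main

/-!
# Twisted traces on the regular class functions of a union of blocks

For an automorphism `α` and a union `U` of blocks the sum over regular `a` of
`∑ ψ ∈ U, ψ (α a) * conj (ψ a)` is a nonnegative multiple of the group order: it is the trace of a
map with a nonnegative integral matrix on the projective indecomposable characters.
-/

namespace CfsgLib.PRationalCount

open Cfsg CfsgLib.CharTheory CfsgLib.Blocks CfsgLib.Blocks.Star CfsgLib.BlockDegreeSquares
open scoped ComplexConjugate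

set_option linter.unusedVariables false
set_option linter.unusedSectionVars false
set_option linter.style.haveILetI false

universe u

variable {p : ℕ} {M : Ideal AlgInt} {G : Type u} [Group G] [Fintype G]

theorem supp_block [Fact p.Prime] (hM : IsPModular p M) {r : ℕ} {e : Fin r → RG hM G}
    (hee : ∀ l, e l * e l = e l)
    (hgen : ∀ x : RG hM G, x * x = x →
      ∃ N : Fin r → ℕ, ∀ χ : IrrCharacter G, tr hM χ x = ∑ l, (N l : ℂ) * tr hM χ (e l))
    (hind : ∀ c : Fin r → ℤ,
      (∀ χ : IrrCharacter G, ∑ l, (c l : ℂ) * tr hM χ (e l) = 0) → c = 0)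
    (l : Fin r) {ψ χ : IrrCharacter G} (h0 : tr hM ψ (e l) ≠ 0)
    (hχ : χ ∉ blockOf M (ψ : G → ℂ)) : tr hM χ (e l) = 0 := by
  classical
  set B := blockOf M (ψ : G → ℂ) with hBdef
  have hB : IsPBlock M B := blockOf_isPBlock ψ
  set b := toO hM (blockCoeff B) with hb
  have hbe : (b * e l) * (b * e l) = b * e l := by
    rw [mul_assoc, ← mul_assoc (e l), ← blockE_comm hM hB, mul_assoc, hee,
      ← mul_assoc, blockE_idem hM hB]
  have hebe : e l * (b * e l) = b * e l := by
    rw [← mul_assoc, ← blockE_comm hM hB, mul_assoc, hee]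
  have hbee : b * e l * e l = b * e l := by rw [mul_assoc, hee]
  obtain ⟨N, hN⟩ := hgen _ hbe
  obtain ⟨N', hN'⟩ := hgen (e l - b * e l) (by
    rw [sub_mul, mul_sub, mul_sub, hee, hebe, hbee, hbe]; abel)
  have hsum := hind (fun l' => (N l' : ℤ) + N' l' - (Pi.single l 1 : Fin r → ℤ) l') fun χ => by
    have h1 : tr hM χ (e l) = tr hM χ (b * e l) + tr hM χ (e l - b * e l) := by
      rw [← tr_add, add_sub_cancel]
    rw [hN, hN', ← Finset.sum_add_distrib] at h1
    push_cast
    simp only [sub_mul, add_mul, Finset.sum_sub_distrib]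
    rw [← h1, Finset.sum_eq_single l (fun l' _ h => by simp [h]) (by simp)]
    simp
  have hoff : ∀ l', l' ≠ l → N l' = 0 := fun l' h => by
    have := congrFun hsum l'
    simp only [Pi.single_eq_of_ne h, Pi.zero_apply] at this
    omega
  have hone := congrFun hsum l
  simp only [Pi.single_eq_same, Pi.zero_apply] at hone
  have hNχ : ∀ φ : IrrCharacter G, tr hM φ (b * e l) = (N l : ℂ) * tr hM φ (e l) := fun φ => by
    rw [hN, Finset.sum_eq_single l (fun l' _ h => by simp [hoff l' h]) (by simp)]
  rcases Nat.eq_zero_or_pos (N l) with h | h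
  · have h1 := hNχ ψ
    rw [h, hb, tr_blockE_mul hM hB, ind_of_mem (mem_blockOf_self hM ψ)] at h1
    exact absurd (by simpa using h1) h0
  · have h1 := hNχ χ
    rw [show N l = 1 by omega, hb, tr_blockE_mul hM hB, ind_of_notMem hχ] at h1
    simpa using h1.symm

/-- The class functions supported on the regular elements. -/
def regSpace (p : ℕ) (G : Type u) [Group G] : Submodule ℂ (G → ℂ) where
  carrier := {f | IsClassFunction G f ∧ ∀ x, p ∣ orderOf x → f x = 0}
  add_mem' := fun {f f'} hf hf' => ⟨fun a b => by simp [hf.1 a b, hf'.1 a b],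
    fun x hx => by simp [hf.2 x hx, hf'.2 x hx]⟩
  zero_mem' := ⟨fun a b => rfl, fun x _ => rfl⟩
  smul_mem' := fun c f hf => ⟨fun a b => by simp [hf.1 a b], fun x hx => by simp [hf.2 x hx]⟩

theorem card_regClasses_le (p : ℕ) :
    Nat.card {C : ConjClasses G // ¬ p ∣ orderOf (crep C)} ≤
      Module.finrank ℂ (regSpace p G) := by
  classical
  set f : {C : ConjClasses G // ¬ p ∣ orderOf (crep C)} → G → ℂ :=
    fun C x => if ConjClasses.mk x = C.1 then 1 else 0 with hf
  have hmem : ∀ C, f C ∈ regSpace p G := by
    intro C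
    refine ⟨fun a b => ?_, fun x hx => ?_⟩
    · simp only [hf]
      rw [show ConjClasses.mk (b * a * b⁻¹) = ConjClasses.mk a from
        ConjClasses.mk_eq_mk_iff_isConj.2 (isConj_iff.2 ⟨b, rfl⟩).symm]
    · simp only [hf]
      refine if_neg fun h => C.2 ?_
      rw [← h]
      obtain ⟨t, ht⟩ := isConj_iff.1 (isConj_crep x)
      have : orderOf x = orderOf (crep (ConjClasses.mk x)) := by
        conv_lhs => rw [← ht]
        exact orderOf_injective (MulAut.conj t).toMonoidHom (MulAut.conj t).injective _
      rwa [← this]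
  have hli : LinearIndependent ℂ (fun C => (⟨f C, hmem C⟩ : regSpace p G)) := by
    rw [Fintype.linearIndependent_iff]
    intro c hc C
    have := congrArg (fun v : regSpace p G => (v : G → ℂ) (crep C.1)) hc
    simp only [Submodule.coe_sum, Submodule.coe_smul, Finset.sum_apply, Pi.smul_apply,
      smul_eq_mul, ZeroMemClass.coe_zero, Pi.zero_apply, hf, mk_crep] at this
    rw [Finset.sum_eq_single C (fun D _ hD => by
      rw [if_neg fun h => hD (Subtype.ext h.symm), mul_zero]) (by simp), if_pos rfl, mul_one] at this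
    exact this
  rw [Nat.card_eq_fintype_card]
  exact hli.fintype_card_le_finrank

theorem trace_twisted_nonneg [Fact p.Prime] (hM : IsPModular p M) (U : Set (IrrCharacter G))
    (hU : ∀ ψ ∈ U, blockOf M (ψ : G → ℂ) ⊆ U) (α : G ≃* G) :
    ∃ N : ℕ, ∑ a ∈ Finset.univ.filter (fun a => ¬ p ∣ orderOf a),
      ∑ ψ ∈ bset U, (ψ : G → ℂ) (α a) * conj ((ψ : G → ℂ) a) = (Nat.card G : ℂ) * N := by
  classical
  obtain ⟨r, e, hee, hgen, hind, hr⟩ := exists_tops hM G
  choose t ht using fun (l : Fin r) (χ : IrrCharacter G) => tr_nat (hM := hM) χ (hee l)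
  set Φ : Fin r → G → ℂ := fun l => ∑ χ : IrrCharacter G, (t l χ : ℂ) • (χ : G → ℂ) with hΦ
  have hΦinner : ∀ l (χ : IrrCharacter G), classInner (Φ l) (χ : G → ℂ) = (t l χ : ℂ) := by
    intro l χ
    simp only [hΦ, classInner_sum_left, classInner_smul_left]
    rw [Finset.sum_eq_single χ (fun φ _ hφ => by
      rw [classInner_irr_ne φ.2 χ.2 fun h => hφ (Subtype.ext h), mul_zero]) (by simp),
      classInner_irr_self χ.2, mul_one]
  have hΦcl : ∀ l, IsClassFunction G (Φ l) := fun l a b => by
    simp only [hΦ, Finset.sum_apply, Pi.smul_apply]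
    exact Finset.sum_congr rfl fun χ _ => by rw [irr_isClassFun χ]
  -- the functions are linearly independent
  have hli : LinearIndependent ℂ Φ := by
    rw [Fintype.linearIndependent_iff]
    intro c hc
    have h1 : ∀ χ : IrrCharacter G, ∑ l, c l * (t l χ : ℂ) = 0 := fun χ => by
      have := congrArg (fun f => classInner f (χ : G → ℂ)) hc
      simpa [classInner_sum_left, classInner_smul_left, hΦinner] using this
    set T : Matrix (IrrCharacter G) (Fin r) ℤ := Matrix.of fun χ l => (t l χ : ℤ) with hT
    have hdet : (T.transpose * T).det ≠ 0 := by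
      intro h0
      obtain ⟨z, hz, hz0⟩ := Matrix.exists_mulVec_eq_zero_iff.2 h0
      apply hz
      refine hind z fun χ => ?_
      have h2 : T.mulVec z = 0 := by
        have h3 : (T.mulVec z) ⬝ᵥ (T.mulVec z) = 0 := by
          have h4 := congrArg (fun v => z ⬝ᵥ v) hz0
          simp only [dotProduct_zero, ← Matrix.mulVec_mulVec, Matrix.dotProduct_mulVec] at h4
          rw [Matrix.vecMul_transpose] at h4
          rw [Matrix.dotProduct_mulVec]
          exact h4
        exact dotProduct_self_eq_zero.1 h3
      have h5 := congrArg (fun n : ℤ => (n : ℂ)) (congrFun h2 χ)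
      simp only [Matrix.mulVec, dotProduct, hT, Matrix.of_apply, Pi.zero_apply] at h5
      push_cast at h5
      rw [← h5]
      exact Finset.sum_congr rfl fun l _ => by rw [ht]; ring
    set Tc : Matrix (IrrCharacter G) (Fin r) ℂ := T.map (Int.cast : ℤ → ℂ) with hTc
    have hdetc : (Tc.transpose * Tc).det ≠ 0 := by
      have : Tc.transpose * Tc = (T.transpose * T).map (Int.cast : ℤ → ℂ) := by
        ext i j
        simp [hTc, Matrix.mul_apply]
      rw [this, show (T.transpose * T).map (Int.cast : ℤ → ℂ) =
        (Int.castRingHom ℂ).mapMatrix (T.transpose * T) from rfl, ← RingHom.map_det]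
      simpa using hdet
    have hTcc : Tc.mulVec c = 0 := funext fun χ => by
      rw [Pi.zero_apply, ← h1 χ]
      simp only [Matrix.mulVec, dotProduct, hTc, hT, Matrix.map_apply, Matrix.of_apply,
        Int.cast_natCast]
      exact Finset.sum_congr rfl fun l _ => mul_comm _ _
    have := Matrix.eq_zero_of_mulVec_eq_zero hdetc
      (v := c) (by rw [← Matrix.mulVec_mulVec, hTcc, Matrix.mulVec_zero])
    exact fun l => congrFun this l
  -- they span the regular class functions
  set W := Submodule.span ℂ (Set.range Φ) with hW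
  have hWR : regSpace p G ≤ W := by
    intro f hf
    have hpart : ∀ χ : IrrCharacter G, pRegularPart p (χ : G → ℂ) ∈ W := by
      intro χ
      set B := blockOf M (χ : G → ℂ) with hBdef
      have hB : IsPBlock M B := blockOf_isPBlock χ
      have hχ : χ ∈ B := mem_blockOf_self hM χ
      obtain ⟨m, hm⟩ := RegularParts.regular_span hM hB (χ := (χ : G → ℂ))
        ⟨fun φ => if φ = χ then 1 else 0, fun x => by
          rw [finsum_mem_bset, Finset.sum_eq_single χ (fun φ _ h => by simp [h])
            (fun h => absurd (mem_bset.2 hχ) h)]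
          simp⟩
      set θ' : G → ℂ := ∑ ψ ∈ bset B, (m ψ : ℂ) • (ψ : G → ℂ) with hθ'
      have hθ'eq : θ' = (p : ℂ) ^ blockDefect p B • pRegularPart p (χ : G → ℂ) := by
        funext x
        rw [Pi.smul_apply, smul_eq_mul, hm x, finsum_mem_bset, hθ', Finset.sum_apply]
        rfl
      have hθ'g : IsGeneralizedCharacter G θ' := isGenChar_sum _ _ fun φ _ => by
        simpa using isGenChar_intSmul (m φ) (isGenChar_of_char (isCharacter_of_irr φ.2))
      obtain ⟨c, hc⟩ := good_of_vanish hgen hθ'g
        (fun x hx => by rw [hθ'eq]; simp [pRegularPart_apply, hx])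
      have hexp : θ' = ∑ l, (c l : ℂ) • Φ l := by
        conv_lhs => rw [eq_sum_irr (isGenChar_iff_coeff_int.1 hθ'g).1]
        simp only [hΦ, Finset.smul_sum, smul_smul]
        rw [Finset.sum_comm]
        refine Finset.sum_congr rfl fun ψ _ => ?_
        rw [← Finset.sum_smul, hc ψ]
        simp only [ht]
      rw [← inv_smul_smul₀ (pow_ne_zero (blockDefect p B) (Nat.cast_ne_zero.2 hM.1.ne_zero) :
        ((p : ℂ) ^ blockDefect p B) ≠ 0) (pRegularPart p (χ : G → ℂ)), ← hθ'eq, hexp]
      exact W.smul_mem _ (W.sum_mem fun l _ => W.smul_mem _ (Submodule.subset_span ⟨l, rfl⟩))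
    have : f = ∑ χ : IrrCharacter G, classInner f (χ : G → ℂ) • pRegularPart p (χ : G → ℂ) := by
      funext x
      simp only [Finset.sum_apply, Pi.smul_apply, pRegularPart_apply]
      by_cases hx : p ∣ orderOf x
      · simp [hx, hf.2 x hx]
      · simp only [if_neg hx]
        conv_lhs => rw [eq_sum_irr hf.1]
        simp [Finset.sum_apply]
    rw [this]
    exact W.sum_mem fun χ _ => W.smul_mem _ (hpart χ)
  have hWeq : regSpace p G = W := by
    refine Submodule.eq_of_le_of_finrank_le hWR ?_
    rw [hW, finrank_span_eq_card hli, Fintype.card_fin]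
    exact hr.trans (card_regClasses_le p)
  have hΦreg : ∀ l x, p ∣ orderOf x → Φ l x = 0 := fun l x hx => by
    have : Φ l ∈ regSpace p G := hWeq ▸ Submodule.subset_span ⟨l, rfl⟩
    exact this.2 x hx
  -- the twisted projection
  have hG : (Nat.card G : ℂ) ≠ 0 := Nat.cast_ne_zero.2 Nat.card_pos.ne'
  let T : (G → ℂ) →ₗ[ℂ] (G → ℂ) :=
    { toFun := fun f a => if p ∣ orderOf a then 0 else (Nat.card G : ℂ)⁻¹ *
        ∑ y, ∑ ψ ∈ bset U, (ψ : G → ℂ) (α a) * conj ((ψ : G → ℂ) y) *
          (if p ∣ orderOf y then 0 else f y)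
      map_add' := fun f f' => funext fun a => by
        simp only [Pi.add_apply]
        split_ifs with h
        · simp
        · rw [← mul_add, ← Finset.sum_add_distrib]
          congr 1
          refine Finset.sum_congr rfl fun y _ => ?_
          rw [← Finset.sum_add_distrib]
          refine Finset.sum_congr rfl fun ψ _ => ?_
          split_ifs <;> simp [mul_add]
      map_smul' := fun c f => funext fun a => by
        simp only [Pi.smul_apply, smul_eq_mul, RingHom.id_apply]
        split_ifs with h
        · simp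
        · rw [mul_left_comm c]
          congr 1
          rw [Finset.mul_sum]
          refine Finset.sum_congr rfl fun y _ => ?_
          rw [Finset.mul_sum]
          refine Finset.sum_congr rfl fun ψ _ => ?_
          split_ifs <;> ring }
  have hord : ∀ a, orderOf (α a) = orderOf a := fun a =>
    orderOf_injective α.toMonoidHom α.injective a
  have hTR : ∀ f, T f ∈ W := by
    intro f
    rw [← hWeq]
    refine ⟨fun a b => ?_, fun x hx => if_pos hx⟩
    show (if p ∣ orderOf (b * a * b⁻¹) then _ else _) = (if p ∣ orderOf a then _ else _)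
    rw [show orderOf (b * a * b⁻¹) = orderOf a from
      orderOf_injective (MulAut.conj b).toMonoidHom (MulAut.conj b).injective a]
    split_ifs
    · rfl
    · congr 1
      refine Finset.sum_congr rfl fun y _ => Finset.sum_congr rfl fun ψ _ => ?_
      rw [map_mul, map_mul, map_inv, irr_isClassFun ψ]
  have htrace : LinearMap.trace ℂ (G → ℂ) T = (Nat.card G : ℂ)⁻¹ *
      ∑ a ∈ Finset.univ.filter (fun a => ¬ p ∣ orderOf a),
        ∑ ψ ∈ bset U, (ψ : G → ℂ) (α a) * conj ((ψ : G → ℂ) a) := by
    rw [LinearMap.trace_eq_matrix_trace ℂ (Pi.basisFun ℂ G), Matrix.trace, Finset.mul_sum,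
      Finset.sum_filter]
    refine Finset.sum_congr rfl fun a _ => ?_
    simp only [Matrix.diag, LinearMap.toMatrix_apply, Pi.basisFun_apply, Pi.basisFun_repr]
    show (if p ∣ orderOf a then (0 : ℂ) else _) = _
    by_cases ha : p ∣ orderOf a
    · simp [ha]
    · rw [if_neg ha, if_pos ha]
      congr 1
      rw [Finset.sum_eq_single a]
      · simp [ha]
      · intro y _ hy
        simp [Pi.single_eq_of_ne hy]
      · simp
  -- its matrix on the basis
  have hT : ∀ l, ∃ N : Fin r → ℕ, T (Φ l) = ∑ i, (N i : ℂ) • Φ i := by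
    intro l
    by_cases hl : ∃ ψ ∈ U, t l ψ ≠ 0
    · obtain ⟨ψ0, hψ0, ht0⟩ := hl
      have hoff : ∀ χ, χ ∉ U → t l χ = 0 := fun χ hχ => by
        have h1 := supp_block hM hee hgen hind l (ψ := ψ0) (χ := χ)
          (by rw [ht]; exact_mod_cast ht0) fun h => hχ (hU ψ0 hψ0 h)
        rw [ht] at h1
        exact_mod_cast h1
      set x : RG hM G := MonoidAlgebra.mapDomainRingHom (loc hM) α.symm.toMonoidHom (e l) with hx
      have hxx : x * x = x := by rw [hx, ← map_mul, hee]
      obtain ⟨N, hN⟩ := hgen x hxx
      refine ⟨N, ?_⟩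
      have htx : ∀ χ : IrrCharacter G,
          tr hM χ x = classInner (fun a => Φ l (α a)) (χ : G → ℂ) := by
        intro χ
        have hirr : IsIrrCharacter G (fun a => (χ : G → ℂ) (α.symm a)) :=
          isIrrCharacter_comp_surjective χ.2 α.symm.toMonoidHom α.symm.surjective
        have h1 : tr hM χ x = tr hM ⟨_, hirr⟩ (e l) := by
          rw [tr_eq, tr_eq]
          refine (Fintype.sum_equiv α.symm.toEquiv _ _ fun a => ?_).symm
          congr 1
          show ((e l).coeff a : ℂ) = (x.coeff (α.symm a) : ℂ)
          rw [hx]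
          exact congrArg Subtype.val (Finsupp.mapDomain_apply α.symm.injective _ a).symm
        rw [h1, ht, ← hΦinner l ⟨_, hirr⟩, classInner, classInner]
        congr 1
        refine Fintype.sum_equiv α.symm.toEquiv _ _ fun a => ?_
        show Φ l a * _ = Φ l (α (α.symm a)) * conj ((χ : G → ℂ) (α.symm a))
        rw [α.apply_symm_apply]
      have hcomp : (fun a => Φ l (α a)) = ∑ i, (N i : ℂ) • Φ i := by
        have hcl' : IsClassFunction G (fun a => Φ l (α a)) := fun a b => by
          show Φ l (α (b * a * b⁻¹)) = Φ l (α a)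
          rw [map_mul, map_mul, map_inv, hΦcl]
        conv_lhs => rw [eq_sum_irr hcl']
        simp only [hΦ, Finset.smul_sum, smul_smul]
        rw [Finset.sum_comm]
        refine Finset.sum_congr rfl fun χ _ => ?_
        rw [← Finset.sum_smul]
        congr 1
        have h2 := hN χ
        rw [htx χ] at h2
        simp only [hΦ] at h2
        rw [h2]
        exact Finset.sum_congr rfl fun i _ => by rw [ht]
      rw [← hcomp]
      funext a
      show (if p ∣ orderOf a then (0 : ℂ) else _) = Φ l (α a)
      by_cases ha : p ∣ orderOf a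
      · rw [if_pos ha, hΦreg l (α a) (by rwa [hord])]
      · rw [if_neg ha, Finset.sum_comm, Finset.mul_sum]
        conv_rhs => simp only [hΦ, Finset.sum_apply, Pi.smul_apply, smul_eq_mul]
        rw [← Finset.sum_subset (Finset.subset_univ (bset U)) fun χ _ hχ => by
          rw [hoff χ fun h => hχ (mem_bset.2 h), Nat.cast_zero, zero_mul]]
        refine Finset.sum_congr rfl fun ψ _ => ?_
        rw [← hΦinner l ψ, classInner, mul_assoc, Finset.sum_mul]
        congr 1
        refine Finset.sum_congr rfl fun y _ => ?_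
        by_cases hy : p ∣ orderOf y
        · simp [hy, hΦreg l y hy]
        · simp only [if_neg hy]; ring
    · push Not at hl
      refine ⟨0, ?_⟩
      funext a
      show (if p ∣ orderOf a then (0 : ℂ) else _) = _
      by_cases ha : p ∣ orderOf a
      · simp [ha]
      · rw [if_neg ha, Finset.sum_comm]
        simp only [Pi.zero_apply, Nat.cast_zero, zero_smul, Finset.sum_const_zero]
        refine mul_eq_zero_of_right _ (Finset.sum_eq_zero fun ψ hψ => ?_)
        have h0 : classInner (Φ l) (ψ : G → ℂ) = 0 := by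
          rw [hΦinner, hl ψ (mem_bset.1 hψ), Nat.cast_zero]
        rw [classInner, mul_eq_zero, inv_eq_zero] at h0
        have h1 := h0.resolve_left hG
        calc ∑ y, (ψ : G → ℂ) (α a) * conj ((ψ : G → ℂ) y) * (if p ∣ orderOf y then 0 else Φ l y)
            = (ψ : G → ℂ) (α a) * ∑ y, Φ l y * conj ((ψ : G → ℂ) y) := by
              rw [Finset.mul_sum]
              refine Finset.sum_congr rfl fun y _ => ?_
              by_cases hy : p ∣ orderOf y
              · simp [hy, hΦreg l y hy]
              · simp only [if_neg hy]; ring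
          _ = 0 := by rw [h1, mul_zero]
  choose N hN using hT
  refine ⟨∑ l, N l l, ?_⟩
  have hmap : ∀ f ∈ W, T f ∈ W := fun f _ => hTR f
  have h := LinearMap.trace_restrict_eq_of_forall_mem W T hTR hmap
  rw [htrace] at h
  rw [← mul_right_inj' (inv_ne_zero hG), inv_mul_cancel_left₀ hG, ← h,
    LinearMap.trace_eq_matrix_trace ℂ (Module.Basis.span hli)]
  rw [Matrix.trace]
  push_cast
  refine Finset.sum_congr rfl fun l _ => ?_
  simp only [Matrix.diag, LinearMap.toMatrix_apply]
  have e1 : (T.restrict hmap) (Module.Basis.span hli l) =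
      ∑ i, (N l i : ℂ) • Module.Basis.span hli i := by
    apply Subtype.ext
    rw [Submodule.coe_sum]
    show T ((Module.Basis.span hli l : W) : G → ℂ) = _
    simp only [Submodule.coe_smul, Module.Basis.span_apply]
    exact hN l
  rw [e1, map_sum, Finsupp.finsetSum_apply, Finset.sum_eq_single l]
  · rw [map_smul, Finsupp.smul_apply, Module.Basis.repr_self, Finsupp.single_eq_same, smul_eq_mul,
      mul_one]
  · intro i _ hi
    rw [map_smul, Finsupp.smul_apply, Module.Basis.repr_self, Finsupp.single_eq_of_ne hi.symm,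
      smul_zero]
  · simp

end CfsgLib.PRationalCount
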